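import Groth.Agent.Lib.BlowUpComp4.Affine
import Groth.Agent.Lib.LimH13.IdealSys
import Groth.Agent.Lib.EffCartier.FiniteType

/-!
# A composition of blow-ups in centres of finite type is a blow-up
-/

set_option autoImplicit false
set_option backward.isDefEq.respectTransparency false
universe u

open CategoryTheory CategoryTheory.Limits AlgebraicGeometry TopologicalSpace

namespace Groth.Agent.BlowUpComp4

variable {X Y : Scheme.{u}} {C : X.IdealSheafData} {b : Y ⟶ X}

/-- A high twist of a finite type ideal on a blow-up is the inverse image of a finite type ideal. -/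
theorem exists_twist [CompactSpace X] [QuasiSeparatedSpace X] (hb : BlowUp.IsBlowUp b C)
    (hC : BlowUp.IsFiniteTypeIdeal C) (J : Y.IdealSheafData) (hJ : BlowUp.IsFiniteTypeIdeal J) :
    ∃ (n : ℕ) (K : X.IdealSheafData), BlowUp.IsFiniteTypeIdeal K ∧ K.comap b = J * (C.comap b) ^ n := by
  classical
  haveI : IsProper b := BlowUpExist.isProper hC hb
  choose n hn using affine_key hb hC J hJ
  obtain ⟨t, ht⟩ := (isCompact_univ (X := X)).elim_finite_subcover (fun U : X.affineOpens => (U.1 : Set X))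
    (fun U => U.1.2) (fun x _ => by
      obtain ⟨_, ⟨U, hU, rfl⟩, hx, -⟩ := X.isBasis_affineOpens.exists_subset_of_mem_open (Set.mem_univ x) isOpen_univ
      exact Set.mem_iUnion.2 ⟨⟨U, hU⟩, hx⟩)
  let m := t.sup n
  choose S hS₁ hS₂ using fun U : t => hn U.1 m (Finset.le_sup U.2)
  let L := J * (C.comap b) ^ m
  choose Jc hJc hJcle hJcmem using fun x : Σ U : t, S U =>
    LimH13.exists_ifg_through (L.map b) x.1.1 x.2.1 (hS₁ x.1 x.2.1 x.2.2)
  have hft : BlowUp.IsFiniteTypeIdeal (⨆ x, Jc x) := fun U => by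
    rw [Scheme.IdealSheafData.ideal_iSup, iSup_apply]
    exact Submodule.fg_iSup _ fun a => hJc a U
  refine ⟨m, ⨆ x, Jc x, hft, ?_⟩
  have hle : (⨆ x, Jc x).comap b ≤ L := (Scheme.IdealSheafData.le_map_iff_comap_le).1 (iSup_le hJcle)
  have hcov : ∀ y : Y, ∃ (U : t) (D : Y.affineOpens) (e : D.1 ≤ b ⁻¹ᵁ U.1.1), y ∈ D.1 ∧
      L.ideal D ≤ (Ideal.span (S U : Set Γ(X, U.1.1))).map (b.appLE U.1.1 D.1 e).hom := fun y => by
    obtain ⟨U, hU, hy⟩ := Set.mem_iUnion₂.1 (ht (Set.mem_univ (b y)))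
    obtain ⟨D, e, hyD, h⟩ := hS₂ ⟨U, hU⟩ y hy
    exact ⟨⟨U, hU⟩, D, e, hyD, h⟩
  choose U D e hyD hD using hcov
  refine Scheme.IdealSheafData.ext_of_iSup_eq_top D (top_le_iff.1 fun y _ => Opens.mem_iSup.2 ⟨y, hyD y⟩) fun y => ?_
  refine le_antisymm (hle (D y)) ((hD y).trans ?_)
  rw [EffCartier.comap_ideal _ b (U y).1 (D y) (e y)]
  refine Ideal.map_mono (Ideal.span_le.2 fun c hc => ?_)
  exact Scheme.IdealSheafData.ideal_mono (le_iSup Jc ⟨U y, c, hc⟩) _ (hJcmem ⟨U y, c, hc⟩)

/-- A composition of blow-ups in centres of finite type is a blow-up in a centre of finite type. -/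
theorem exists_isBlowUp_comp [CompactSpace X] [QuasiSeparatedSpace X] (hb : BlowUp.IsBlowUp b C)
    (hC : BlowUp.IsFiniteTypeIdeal C) {Z : Scheme.{u}} {J : Y.IdealSheafData} (hJ : BlowUp.IsFiniteTypeIdeal J)
    {b' : Z ⟶ Y} (hb' : BlowUp.IsBlowUp b' J) :
    ∃ K : X.IdealSheafData, BlowUp.IsFiniteTypeIdeal K ∧
      (K.support : Set X) = (C.support : Set X) ∪ (fun y => b y) '' (J.support : Set Y) ∧
      BlowUp.IsBlowUp (b' ≫ b) K := by
  obtain ⟨n, K, hK, hKb⟩ := exists_twist hb hC J hJ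
  refine ⟨C * K, fun U => ?_, ?_, BlowUp26.isBlowUp_comp_mul hb ?_⟩
  · rw [Scheme.IdealSheafData.ideal_mul, Pi.mul_apply]
    exact Ideal.FG.mul (hC U) (hK U)
  · have h : ∀ y, b y ∈ (K.support : Set X) ↔ y ∈ ((J * (C.comap b) ^ n).support : Set Y) := fun y => by
      rw [← hKb, Scheme.IdealSheafData.support_comap]; rfl
    have hle : (((C.comap b) ^ n).support : Set Y) ⊆ b ⁻¹' (C.support : Set X) := by
      have h0 : ((C.comap b).support : Set Y) = b ⁻¹' (C.support : Set X) := by
        rw [Scheme.IdealSheafData.support_comap]; rfl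
      rcases n with - | k
      · rw [pow_zero, Scheme.IdealSheafData.one_eq_top, Scheme.IdealSheafData.support_top]
        exact Set.empty_subset _
      · rw [Scheme.IdealSheafData.support_pow_succ, h0]
    rw [Scheme.IdealSheafData.support_mul, Closeds.coe_sup]
    refine Set.Subset.antisymm (Set.union_subset Set.subset_union_left fun x hx => ?_) (Set.union_subset Set.subset_union_left ?_)
    · by_cases hxC : x ∈ (C.support : Set X)
      · exact Or.inl hxC
      haveI := EffCartier.isIso_blowUp_restrict hb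
      obtain ⟨z, hz⟩ := (b ∣_ EffCartier.cmpl C).homeomorph.surjective ⟨x, hxC⟩
      have hzx : b z.1 = x := by
        have h2 := congrArg (EffCartier.cmpl C).ι (show (b ∣_ EffCartier.cmpl C) z = ⟨x, hxC⟩ from hz)
        rwa [← Scheme.Hom.comp_apply, morphismRestrict_ι] at h2
      have h1 := (h z.1).1 (hzx.symm ▸ hx)
      rw [Scheme.IdealSheafData.support_mul, Closeds.coe_sup] at h1
      rcases h1 with h1 | h1
      · exact Or.inr ⟨z.1, h1, hzx⟩
      · exact absurd (hzx ▸ hle h1) hxC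
    · rintro _ ⟨y, hy, rfl⟩
      refine Or.inr ((h y).2 ?_)
      rw [Scheme.IdealSheafData.support_mul, Closeds.coe_sup]
      exact Or.inl hy
  · rw [hKb]
    exact BlowUp26.isBlowUp_mul_effCartier (BlowUpExist.isEffCartierIdeal_pow hb.1 n) hb'

end Groth.Agent.BlowUpComp4
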