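import Groth.Agent.Lib.BlowUpExist.Proper
import Groth.Agent.Lib.BlowUp26.Basic

/-!
# Ideals on a blow-up twisted by a power of the exceptional ideal come from the base
-/

set_option autoImplicit false
set_option backward.isDefEq.respectTransparency false
universe u

open CategoryTheory CategoryTheory.Limits AlgebraicGeometry TopologicalSpace
open scoped nonZeroDivisors

namespace Groth.Agent.BlowUpComp4

open BlowUpExist BlowUpExist.ChartIdx

variable {X Y : Scheme.{u}} {C : X.IdealSheafData} {b : Y ⟶ X}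

/-- A section of the base whose pullback lies locally in an ideal lies in the pushforward of that ideal. -/
theorem mem_map_of_locally [QuasiCompact b] (L : Y.IdealSheafData) (U : X.affineOpens) (c : Γ(X, U.1))
    (h : ∀ y ∈ b ⁻¹ᵁ U.1, ∃ (D : Y.affineOpens) (e : D.1 ≤ b ⁻¹ᵁ U.1), y ∈ D.1 ∧ b.appLE U.1 D.1 e c ∈ L.ideal D) :
    c ∈ (L.map b).ideal U := by
  show c ∈ (L.subschemeι ≫ b).ker.ideal U
  rw [Scheme.Hom.ker_apply, RingHom.mem_ker]
  refine TopCat.Presheaf.section_ext L.subscheme.sheaf _ _ _ fun z hz => ?_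
  obtain ⟨D, e, hzD, hmem⟩ := h (L.subschemeι z) hz
  rw [← L.ker_subschemeι_app D, RingHom.mem_ker] at hmem
  have h2 : L.subscheme.presheaf.map (homOfLE (show L.subschemeι ⁻¹ᵁ D.1 ≤ (L.subschemeι ≫ b) ⁻¹ᵁ U.1 from
      fun w hw => e hw)).op ((L.subschemeι ≫ b).app U.1 c) = 0 := by
    rw [← hmem, ← CommRingCat.comp_apply, ← CommRingCat.comp_apply]
    refine DFunLike.congr_fun (congrArg CommRingCat.Hom.hom ?_) c
    rw [Scheme.Hom.app_eq_appLE, Scheme.Hom.app_eq_appLE, Scheme.Hom.appLE_map, ← Scheme.Hom.appLE_comp_appLE _ _ U.1 D.1 _ e le_rfl]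
  have h3 := congrArg (L.subscheme.presheaf.germ _ z (show z ∈ L.subschemeι ⁻¹ᵁ D.1 from hzD)) h2
  erw [TopCat.Presheaf.germ_res_apply, map_zero] at h3
  rw [map_zero]
  exact h3

variable (hb : BlowUp.IsBlowUp b C)

include hb in
/-- Every section on a chart is a fraction. -/
theorem exists_repr (i : ChartIdx C) (g : Γ(Y, i.locus b)) :
    ∃ (M : ℕ) (c : Γ(X, i.U.1)), c ∈ ((C ^ (i.n + 1)).ideal i.U) ^ M ∧
      g * b.appLE i.U.1 (i.locus b) (locus_le i) i.c ^ M = b.appLE i.U.1 (i.locus b) (locus_le i) c := by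
  obtain ⟨φ, hφs, hφ⟩ := exists_ringEquiv_locus hb i
  obtain ⟨⟨q, hq⟩, rfl⟩ := hφs g
  induction hq using Algebra.adjoin_induction with
  | algebraMap a =>
    refine ⟨0, i.U.1.topIso.hom a, by simp, ?_⟩
    rw [pow_zero, mul_one]
    exact hφ a
  | add p q hp hq ihp ihq =>
    obtain ⟨M, c, hc, h⟩ := ihp
    obtain ⟨M', c', hc', h'⟩ := ihq
    refine ⟨M + M', c * i.c ^ M' + c' * i.c ^ M, ?_, ?_⟩
    · rw [pow_add]
      refine add_mem (Ideal.mul_mem_mul hc (Ideal.pow_mem_pow i.mem _)) ?_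
      rw [mul_comm c' _]
      exact Ideal.mul_mem_mul (Ideal.pow_mem_pow i.mem _) hc'
    · rw [show (⟨p + q, _⟩ : BlowUp.affineAlgebra _ _ _) = ⟨p, hp⟩ + ⟨q, hq⟩ from rfl, map_add, map_add, map_mul, map_mul,
        map_pow, map_pow, ← h, ← h']
      ring
  | mul p q hp hq ihp ihq =>
    obtain ⟨M, c, hc, h⟩ := ihp
    obtain ⟨M', c', hc', h'⟩ := ihq
    refine ⟨M + M', c * c', by rw [pow_add]; exact Ideal.mul_mem_mul hc hc', ?_⟩
    rw [show (⟨p * q, _⟩ : BlowUp.affineAlgebra _ _ _) = ⟨p, hp⟩ * ⟨q, hq⟩ from rfl, map_mul, map_mul, ← h, ← h']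
    ring
  | mem q hq =>
    obtain ⟨x, hx, rfl⟩ := hq
    refine ⟨1, i.U.1.topIso.hom x, ?_, ?_⟩
    · rw [pow_one]
      have h1 : x ∈ ((C ^ (i.n + 1)).ideal i.U).map i.U.1.topIso.inv.hom := by
        rw [← J_ideal_top]; exact hx
      obtain ⟨x', hx', rfl⟩ := (Ideal.mem_map_iff_of_surjective _ (ConcreteCategory.bijective_of_isIso _).2).mp h1
      rw [Iso.inv_hom_id_apply]
      exact hx'
    · have hkey : φ ⟨IsLocalization.mk' (Localization.Away i.sec) x ⟨i.sec, Submonoid.mem_powers _⟩,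
            Algebra.subset_adjoin ⟨x, hx, rfl⟩⟩ * φ (algebraMap _ _ i.sec) = φ (algebraMap _ _ x) := by
        rw [← map_mul, mul_comm]
        exact congrArg φ (Subtype.ext (IsLocalization.mk'_spec' (Localization.Away i.sec) x
          ⟨i.sec, Submonoid.mem_powers _⟩))
      rw [hφ, hφ] at hkey
      rw [pow_one]
      rw [show i.U.1.topIso.hom i.sec = i.c from Iso.inv_hom_id_apply i.U.1.topIso i.c] at hkey
      exact hkey

include hb in
theorem exists_mem_locus (U : X.affineOpens) {κ : Type*} [Fintype κ] (a : κ → Γ(X, U.1)) (ha : ∀ k, a k ∈ (C ^ (0 + 1)).ideal U)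
    (hspan : C.ideal U = Ideal.span (Set.range a)) (y : Y) (hy : y ∈ b ⁻¹ᵁ U.1) :
    ∃ k, y ∈ (⟨U, 0, a k, ha k⟩ : ChartIdx C).locus b := by
  have hCn : BlowUp.IsEffCartierIdeal ((C ^ (0 + 1)).comap b) := by rw [zero_add, pow_one]; exact hb.1
  obtain ⟨V, hyV, hVle, e, he⟩ := EffCartier.exists_isEqn hCn (x := y) (W := b ⁻¹ᵁ U.1) hy
  have hdvd : ∀ k, e ∣ b.appLE U.1 V.1 hVle (a k) := fun k => by
    rw [← Ideal.mem_span_singleton, ← he.ideal_eq, EffCartier.comap_ideal _ b U V hVle]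
    exact Ideal.mem_map_of_mem _ (ha k)
  choose z hz using hdvd
  have hemem : e ∈ Ideal.span (Set.range fun k => b.appLE U.1 V.1 hVle (a k)) := by
    have h1 : e ∈ ((C ^ (0 + 1)).comap b).ideal V := by rw [he.ideal_eq]; exact Ideal.subset_span rfl
    rw [EffCartier.comap_ideal _ b U V hVle, zero_add, pow_one, hspan, Ideal.map_span, ← Set.range_comp] at h1
    exact h1
  obtain ⟨r, hr⟩ := (Ideal.mem_span_range_iff_exists_fun).mp hemem
  have h1 : ∑ k, r k * z k = 1 := (mul_cancel_left_mem_nonZeroDivisors he.mem).mp (by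
    rw [mul_one, Finset.mul_sum]
    exact (Finset.sum_congr rfl fun k _ => by rw [hz k]; ring).trans hr)
  have : ∃ k, y ∈ Y.basicOpen (z k) := by
    by_contra hne
    push Not at hne
    have hmem : Y.presheaf.germ V.1 y hyV (∑ k, r k * z k) ∈ IsLocalRing.maximalIdeal _ := by
      rw [map_sum]
      refine sum_mem fun k _ => ?_
      rw [map_mul]
      exact Ideal.mul_mem_left _ _ fun hu => hne k ((Scheme.mem_basicOpen _ _ _ hyV).mpr hu)
    rw [h1, map_one] at hmem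
    exact (IsLocalRing.notMem_maximalIdeal.mpr isUnit_one) hmem
  obtain ⟨k, hk⟩ := this
  exact ⟨k, le_locus (mem_basicOpen_ι ⟨U, 0, a k, ha k⟩ hb.1 (V := V) hVle he (z k) (hz k)) hk⟩

include hb in
/-- A representative of a section of an ideal on one chart, multiplied by a power of the chart coordinate,
lies in the twisted ideal on another chart. -/
theorem exists_pow_mem (L : Y.IdealSheafData) (U : X.affineOpens) {a a' : Γ(X, U.1)}
    (ha : a ∈ (C ^ (0 + 1)).ideal U) (ha' : a' ∈ (C ^ (0 + 1)).ideal U)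
    {g : Γ(Y, (⟨U, 0, a, ha⟩ : ChartIdx C).locus b)} (hg : g ∈ L.ideal ⟨_, isAffineOpen_locus hb ⟨U, 0, a, ha⟩⟩)
    {M : ℕ} {c : Γ(X, U.1)} (hc : c ∈ ((C ^ (0 + 1)).ideal U) ^ M)
    (hgc : g * b.appLE U.1 _ (locus_le (⟨U, 0, a, ha⟩ : ChartIdx C)) a ^ M =
      b.appLE U.1 _ (locus_le (⟨U, 0, a, ha⟩ : ChartIdx C)) c) :
    ∃ p, ∀ q, p ≤ q → b.appLE U.1 _ (locus_le (⟨U, 0, a', ha'⟩ : ChartIdx C)) (c * a ^ q) ∈
      (L * ((C ^ (0 + 1)).comap b) ^ (M + q)).ideal ⟨_, isAffineOpen_locus hb ⟨U, 0, a', ha'⟩⟩ := by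
  let D : Y.affineOpens := ⟨_, isAffineOpen_locus hb ⟨U, 0, a', ha'⟩⟩
  have eD : D.1 ≤ b ⁻¹ᵁ U.1 := locus_le _
  obtain ⟨t, ht⟩ := exists_coord hb ⟨U, 0, a', ha'⟩ (a := a) ha
  have heqn := isEqn_locus hb ⟨U, 0, a', ha'⟩
  have hpow : ∀ N, (((C ^ (0 + 1)).comap b) ^ N).ideal D = Ideal.span {b.appLE U.1 D.1 eD a' ^ N} := fun N => by
    rw [Scheme.IdealSheafData.ideal_pow, Pi.pow_apply, heqn.ideal_eq, Ideal.span_singleton_pow]
  obtain ⟨f, hf⟩ : b.appLE U.1 D.1 eD a' ^ M ∣ b.appLE U.1 D.1 eD c := by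
    rw [← Ideal.mem_span_singleton, ← hpow M, Scheme.IdealSheafData.ideal_pow, Pi.pow_apply,
      EffCartier.comap_ideal _ b U D eD, ← Ideal.map_pow]
    exact Ideal.mem_map_of_mem _ hc
  have hle₁ : Y.basicOpen t ≤ (⟨U, 0, a, ha⟩ : ChartIdx C).locus b :=
    le_locus (mem_basicOpen_ι ⟨U, 0, a, ha⟩ hb.1 (V := D) eD heqn t ht)
  have hle₂ : Y.basicOpen t ≤ D.1 := Y.basicOpen_le t
  let Dt : Y.affineOpens := ⟨_, D.2.basicOpen t⟩
  have hres₁ : ∀ x, Y.presheaf.map (homOfLE hle₁).op (b.appLE U.1 _ (locus_le (⟨U, 0, a, ha⟩ : ChartIdx C)) x) =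
      b.appLE U.1 (Y.basicOpen t) (hle₁.trans (locus_le _)) x := fun x =>
    DFunLike.congr_fun (congrArg CommRingCat.Hom.hom (b.appLE_map _ (homOfLE hle₁).op)) x
  have hres₂ : ∀ x, Y.presheaf.map (homOfLE hle₂).op (b.appLE U.1 D.1 eD x) =
      b.appLE U.1 (Y.basicOpen t) (hle₂.trans eD) x := fun x =>
    DFunLike.congr_fun (congrArg CommRingCat.Hom.hom (b.appLE_map eD (homOfLE hle₂).op)) x
  have h1 := congrArg (Y.presheaf.map (homOfLE hle₁).op) hgc
  rw [map_mul, map_pow, hres₁, hres₁] at h1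
  have h2 := congrArg (Y.presheaf.map (homOfLE hle₂).op) hf
  rw [map_mul, map_pow, hres₂, hres₂] at h2
  have h3 := congrArg (Y.presheaf.map (homOfLE hle₂).op) ht
  rw [map_mul, hres₂, hres₂] at h3
  have hnzd : b.appLE U.1 (Y.basicOpen t) (hle₂.trans eD) a' ∈ Γ(Y, Y.basicOpen t)⁰ := by
    have := (heqn.basicOpen t).mem
    rwa [hres₂] at this
  have hfeq : Y.presheaf.map (homOfLE hle₂).op f =
      Y.presheaf.map (homOfLE hle₁).op g * Y.presheaf.map (homOfLE hle₂).op t ^ M := by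
    refine (mul_cancel_left_mem_nonZeroDivisors (pow_mem hnzd M)).mp ?_
    rw [← h2, ← h1, h3, mul_pow]
    ring
  have hfL : Y.presheaf.map (homOfLE hle₂).op f ∈ L.ideal Dt := by
    rw [hfeq]
    refine Ideal.mul_mem_right _ _ ?_
    rw [← L.map_ideal (U := Dt) (V := ⟨_, isAffineOpen_locus hb ⟨U, 0, a, ha⟩⟩) hle₁]
    exact Ideal.mem_map_of_mem _ hg
  rw [← L.map_ideal (U := Dt) (V := D) hle₂] at hfL
  letI : Algebra Γ(Y, D.1) Γ(Y, Y.basicOpen t) := (Y.presheaf.map (homOfLE (Y.basicOpen_le t)).op).hom.toAlgebra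
  haveI : IsLocalization.Away t Γ(Y, Y.basicOpen t) := D.2.isLocalization_basicOpen t
  obtain ⟨_, ⟨p, rfl⟩, hp⟩ :=
    (IsLocalization.algebraMap_mem_map_algebraMap_iff (Submonoid.powers t) Γ(Y, Y.basicOpen t) (L.ideal D) f).1 hfL
  refine ⟨p, fun q hq => ?_⟩
  rw [Scheme.IdealSheafData.ideal_mul, Pi.mul_apply, hpow, map_mul, map_pow, hf, ht, mul_pow,
    show b.appLE U.1 D.1 eD a' ^ M * f * (b.appLE U.1 D.1 eD a' ^ q * t ^ q) =
      (t ^ (q - p) * (t ^ p * f)) * b.appLE U.1 D.1 eD a' ^ (M + q) by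
        rw [← mul_assoc (t ^ (q - p)), ← pow_add, Nat.sub_add_cancel hq]; ring]
  exact Ideal.mul_mem_mul (Ideal.mul_mem_left _ _ hp) (Ideal.mem_span_singleton_self _)

include hb in
/-- On an affine open of the base, a high twist of an ideal on the blow-up is generated from below. -/
theorem affine_key [QuasiCompact b] (hC : BlowUp.IsFiniteTypeIdeal C) (J : Y.IdealSheafData)
    (hJ : BlowUp.IsFiniteTypeIdeal J) (U : X.affineOpens) :
    ∃ n, ∀ m, n ≤ m → ∃ S : Finset Γ(X, U.1), (∀ c ∈ S, c ∈ ((J * (C.comap b) ^ m).map b).ideal U) ∧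
      ∀ y ∈ b ⁻¹ᵁ U.1, ∃ (D : Y.affineOpens) (e : D.1 ≤ b ⁻¹ᵁ U.1), y ∈ D.1 ∧
        (J * (C.comap b) ^ m).ideal D ≤ (Ideal.span (S : Set Γ(X, U.1))).map (b.appLE U.1 D.1 e).hom := by
  classical
  obtain ⟨s, hs⟩ := hC U
  have ha : ∀ k : s, k.1 ∈ (C ^ (0 + 1)).ideal U := fun k => by
    rw [zero_add, pow_one, ← hs]; exact Ideal.subset_span k.2
  have hspan : C.ideal U = Ideal.span (Set.range fun k : s => k.1) := by
    rw [← hs]; congr 1; ext x; simp
  let D : s → Y.affineOpens := fun k => ⟨_, isAffineOpen_locus hb ⟨U, 0, k.1, ha k⟩⟩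
  have eD : ∀ k, (D k).1 ≤ b ⁻¹ᵁ U.1 := fun k => locus_le _
  choose G hG using fun k => hJ (D k)
  have hgJ : ∀ x : Σ k, G k, (x.2.1 : Γ(Y, (D x.1).1)) ∈ J.ideal (D x.1) := fun x => by
    rw [← hG x.1]; exact Ideal.subset_span x.2.2
  choose M c hc hgc using fun x : Σ k, G k => exists_repr hb ⟨U, 0, x.1.1, ha x.1⟩ x.2.1
  choose p hp using fun (x : Σ k, G k) (l : s) => exists_pow_mem hb J U (ha x.1) (ha l) (hgJ x) (hc x) (hgc x)
  let P := Finset.univ.sup fun x : (Σ k, G k) × s => M x.1 + p x.1 x.2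
  refine ⟨P, fun m hm => ⟨Finset.univ.image fun x : Σ k, G k => c x * x.1.1 ^ (m - M x), ?_, ?_⟩⟩
  · intro c' hc'
    obtain ⟨x, -, rfl⟩ := Finset.mem_image.1 hc'
    refine mem_map_of_locally _ U _ fun y hy => ?_
    obtain ⟨l, hl⟩ := exists_mem_locus hb U (fun k : s => k.1) ha hspan y hy
    refine ⟨D l, eD l, hl, ?_⟩
    have hle : M x + p x l ≤ m := le_trans (Finset.le_sup (f := fun x : (Σ k, G k) × s => M x.1 + p x.1 x.2)
      (Finset.mem_univ (x, l))) hm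
    have h := hp x l (m - M x) (by omega)
    rw [Nat.add_sub_cancel' (by omega)] at h
    simpa only [zero_add, pow_one] using h
  · intro y hy
    obtain ⟨k, hk⟩ := exists_mem_locus hb U (fun k : s => k.1) ha hspan y hy
    refine ⟨D k, eD k, hk, ?_⟩
    have hpow : ((C.comap b) ^ m).ideal (D k) = Ideal.span {b.appLE U.1 (D k).1 (eD k) k.1 ^ m} := by
      have h := (isEqn_locus hb ⟨U, 0, k.1, ha k⟩).ideal_eq
      simp only [zero_add, pow_one] at h
      rw [Scheme.IdealSheafData.ideal_pow, Pi.pow_apply, h, Ideal.span_singleton_pow]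
    rw [Scheme.IdealSheafData.ideal_mul, Pi.mul_apply, hpow, ← hG k, Ideal.span_mul_span', Ideal.span_le]
    rintro _ ⟨g, hg, _, rfl, rfl⟩
    have hle : M ⟨k, g, hg⟩ ≤ m := le_trans (le_trans (Nat.le_add_right _ (p ⟨k, g, hg⟩ k))
      (Finset.le_sup (f := fun x : (Σ k, G k) × s => M x.1 + p x.1 x.2) (Finset.mem_univ (⟨k, g, hg⟩, k)))) hm
    have h2 : b.appLE U.1 (D k).1 (eD k) (c ⟨k, g, hg⟩ * k.1 ^ (m - M ⟨k, g, hg⟩)) =
        g * b.appLE U.1 (D k).1 (eD k) k.1 ^ m := by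
      rw [map_mul, map_pow, ← hgc ⟨k, g, hg⟩, mul_assoc, ← pow_add, Nat.add_sub_cancel' hle]
    show g * b.appLE U.1 (D k).1 (eD k) k.1 ^ m ∈ _
    rw [← h2]
    exact Ideal.mem_map_of_mem _ (Ideal.subset_span (Finset.mem_image_of_mem _ (Finset.mem_univ (⟨k, g, hg⟩ : Σ k, G k))))

end Groth.Agent.BlowUpComp4
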